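import Groth.Agent.L23.BranchBasic
import Groth.Agent.L05.Henselization.SmoothUnibranch
import Groth.Agent.L23.BranchSum
import Groth.Agent.L06.UnibranchDescent
import Groth.Agent.L20.WeaklyEtaleStalk
import Mathlib.LinearAlgebra.TensorProduct.RightExactness
import Mathlib.FieldTheory.SeparableClosure

/-!
Geometric branches of a local algebra are unchanged by extension of the ground field.
-/

set_option autoImplicit false
set_option linter.style.haveILetI false
set_option backward.isDefEq.respectTransparency.types false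
set_option maxSynthPendingDepth 3
universe u

open IsLocalRing TensorProduct

namespace Groth.L22.Branches

/-- A weakly étale henselian algebra with separably closed, separable residue extension sees the geometric
branches as its minimal primes. -/
theorem card_minimalPrimes_of_weaklyEtale (B U : Type u) [CommRing B] [IsLocalRing B] [CommRing U] [IsLocalRing U]
    [Algebra B U] [IsLocalHom (algebraMap B U)] [Algebra.WeaklyEtale B U] [HenselianLocalRing U]
    [Algebra.IsSeparable (ResidueField B) (ResidueField U)] [IsSepClosed (ResidueField U)] :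
    ENat.card (minimalPrimes U) = Brnch.numGeomBranches B := by
  classical
  haveI : Algebra.IsIntegral B (CAlg2.normRed B) := Groth.L05.Henselization.Branches.isIntegral_normRed
  show (minimalPrimes U).encard = _
  unfold Brnch.numGeomBranches
  split_ifs with hfin
  · obtain ⟨τ, hτ⟩ := Groth.L23.Branch.exists_residueHom B U
    rw [Groth.L23.Branch.encard_minimalPrimes_eq_card_maximal B U hfin, Groth.L23.Branch.card_sigma_emb B]
    letI : Algebra B (AlgebraicClosure (ResidueField B)) := (Brnch.toClosure B).toAlgebra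
    exact (Groth.L23.Branch.card_maximal_eq_card_algHom B U (CAlg2.normRed B) _ τ hτ).symm
  · exact top_le_iff.1 ((Set.Infinite.encard_eq hfin).ge.trans
      (Groth.L23.Branch.encard_minimalPrimes_le_of_flat B U))

variable (k : Type u) [Field k] (K : Type u) [Field K] [Algebra k K]
variable (S : Type u) [CommRing S] [IsLocalRing S] [Algebra k S]

section Prime

variable (q' : Ideal (S ⊗[k] K)) [q'.IsPrime] (hq' : q'.comap (algebraMap S (S ⊗[k] K)) = maximalIdeal S)

include hq' in
/-- Over a geometrically unibranch prime there is one minimal prime, geometrically unibranch itself. -/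
theorem unique_over (p : Ideal S) [p.IsPrime] (hu : CAlg2.IsGeomUnibranch (S ⧸ p)) :
    ∀ (P : Ideal (Localization.AtPrime q')), P ∈ minimalPrimes (Localization.AtPrime q') →
      P.comap (algebraMap S (Localization.AtPrime q')) = p →
      (∃ (_ : IsLocalRing (Localization.AtPrime q' ⧸ P)), CAlg2.IsGeomUnibranch (Localization.AtPrime q' ⧸ P)) ∧
      ∀ P' ∈ minimalPrimes (Localization.AtPrime q'), P'.comap (algebraMap S (Localization.AtPrime q')) = p → P' = P := by
  let R := Localization.AtPrime q'
  haveI : IsLocalRing (S ⧸ p) := .of_surjective' _ Ideal.Quotient.mk_surjective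
  let D := S ⧸ p
  let ψ : S ⊗[k] K →ₐ[k] D ⊗[k] K := Algebra.TensorProduct.map (Ideal.Quotient.mkₐ k p) (AlgHom.id k K)
  have hψs : Function.Surjective ψ :=
    TensorProduct.map_surjective Ideal.Quotient.mk_surjective Function.surjective_id
  have hψk : RingHom.ker ψ.toRingHom = p.map (algebraMap S (S ⊗[k] K)) := by
    refine (Algebra.TensorProduct.map_ker _ _ Ideal.Quotient.mk_surjective Function.surjective_id).trans ?_
    rw [show RingHom.ker (AlgHom.id k K) = ⊥ from (RingHom.injective_iff_ker_eq_bot _).1 fun a b h => h,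
      Ideal.map_bot, sup_bot_eq, show RingHom.ker (Ideal.Quotient.mkₐ k p) = p from Ideal.Quotient.mkₐ_ker k p]
    rfl
  have hkq : RingHom.ker ψ.toRingHom ≤ q' := by
    rw [hψk, Ideal.map_le_iff_le_comap, hq']
    exact le_maximalIdeal (Ideal.IsPrime.ne_top ‹_›)
  let q'' : Ideal (D ⊗[k] K) := q'.map ψ.toRingHom
  haveI : q''.IsPrime := Ideal.map_isPrime_of_surjective hψs hkq
  have hq'c : q''.comap ψ.toRingHom = q' := by
    refine (Ideal.comap_map_of_surjective _ hψs q').trans (sup_eq_left.2 ?_)
    exact hkq
  have hq'' : q''.comap (algebraMap D (D ⊗[k] K)) = maximalIdeal D := by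
    refine Ideal.comap_injective_of_surjective (Ideal.Quotient.mk p) Ideal.Quotient.mk_surjective ?_
    haveI : IsLocalHom (Ideal.Quotient.mk p) := IsLocalHom.of_surjective _ Ideal.Quotient.mk_surjective
    rw [Ideal.comap_comap, IsLocalRing.maximalIdeal_comap (Ideal.Quotient.mk p)]
    conv_rhs => rw [← hq', ← hq'c, Ideal.comap_comap]
    rfl
  have hL := (Groth.L06.Unibranch.isGeomUnibranch_iff_tensor k D K q'' hq'').1 hu
  let L := Localization.AtPrime q''
  let π : R →+* L := Localization.localRingHom q' q'' ψ.toRingHom hq'c.symm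
  have hπs : Function.Surjective π := by
    intro z
    obtain ⟨t, ⟨s, hs⟩, rfl⟩ := IsLocalization.exists_mk'_eq q''.primeCompl z
    obtain ⟨t', rfl⟩ := hψs t
    obtain ⟨s', rfl⟩ := hψs s
    exact ⟨IsLocalization.mk' R t' (⟨s', fun h => hs (Ideal.mem_map_of_mem ψ.toRingHom h)⟩ : q'.primeCompl),
      Localization.localRingHom_mk' _ _ _ _ _ _⟩
  haveI : (nilradical L).IsPrime := (Ideal.Quotient.isDomain_iff_prime _).1 hL.1.1
  have key : ∀ P ∈ minimalPrimes R, P.comap (algebraMap S R) = p → P = (nilradical L).comap π := by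
    intro P hP hPp
    haveI := hP.isPrime
    have hker : RingHom.ker π ≤ P := by
      intro z hz
      obtain ⟨t, ⟨s, hs⟩, rfl⟩ := IsLocalization.exists_mk'_eq q'.primeCompl z
      rw [RingHom.mem_ker, Localization.localRingHom_mk', IsLocalization.mk'_eq_zero_iff] at hz
      obtain ⟨⟨w, hw⟩, hwz⟩ := hz
      obtain ⟨w', rfl⟩ := hψs w
      have hw' : w' ∉ q' := fun h => hw (Ideal.mem_map_of_mem ψ.toRingHom h)
      have hmem : w' * t ∈ RingHom.ker ψ.toRingHom := by
        rw [RingHom.mem_ker, map_mul]
        exact hwz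
      have hle : p.map (algebraMap S (S ⊗[k] K)) ≤ P.comap (algebraMap (S ⊗[k] K) R) := by
        rw [Ideal.map_le_iff_le_comap, Ideal.comap_comap, ← IsScalarTower.algebraMap_eq]
        exact hPp.ge
      rw [hψk] at hmem
      have h2 : algebraMap (S ⊗[k] K) R w' * algebraMap (S ⊗[k] K) R t ∈ P := by
        rw [← map_mul]; exact hle hmem
      refine (IsLocalization.mk'_mem_iff (S := R)).2 ((hP.isPrime.mem_or_mem h2).resolve_left fun h => ?_)
      exact hP.isPrime.ne_top (Ideal.eq_top_of_isUnit_mem _ h (IsLocalization.map_units R (⟨w', hw'⟩ : q'.primeCompl)))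
    haveI : (P.map π).IsPrime := Ideal.map_isPrime_of_surjective hπs hker
    have h1 : (nilradical L).comap π ≤ P := by
      refine (Ideal.comap_mono (nilradical_le_prime (P.map π))).trans ?_
      rw [Ideal.comap_map_of_surjective _ hπs]
      exact sup_le le_rfl hker
    exact le_antisymm (hP.2 ⟨Ideal.IsPrime.comap π, bot_le⟩ h1) h1
  intro P hP hPp
  haveI := hP.isPrime
  refine ⟨⟨.of_surjective' _ Ideal.Quotient.mk_surjective, ?_⟩, fun P' hP' hP'p =>
    (key P' hP' hP'p).trans (key P hP hPp).symm⟩
  haveI : IsLocalRing (R ⧸ P) := .of_surjective' _ Ideal.Quotient.mk_surjective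
  let g : R →+* CAlg2.red L := (Ideal.Quotient.mk (nilradical L)).comp π
  have hg : Function.Surjective g := Ideal.Quotient.mk_surjective.comp hπs
  have hgk : RingHom.ker g = P := by
    rw [key P hP hPp, RingHom.ker, ← Ideal.comap_comap, ← RingHom.ker_eq_comap_bot, Ideal.mk_ker]
  let e : R ⧸ P ≃+* CAlg2.red L :=
    (Ideal.quotEquivOfEq hgk.symm).trans (RingHom.quotientKerEquivOfSurjective hg)
  refine Groth.L07.Chevalley.isGeomUnibranch_of_surjective (e.symm.toRingHom.comp (Ideal.Quotient.mk _))
    (e.symm.surjective.comp Ideal.Quotient.mk_surjective) ?_ hL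
  intro z hz
  rw [RingHom.mem_ker, RingHom.comp_apply] at hz
  exact Ideal.Quotient.eq_zero_iff_mem.1 ((map_eq_zero_iff _ e.symm.injective).1 hz)

variable [HenselianLocalRing S] [IsSepClosed (ResidueField S)]

include hq' in
/-- The geometric branches of a localised base change of a strictly henselian ring. -/
theorem numGeomBranches_strict :
    Brnch.numGeomBranches (Localization.AtPrime q') = (minimalPrimes S).encard := by
  classical
  let R := Localization.AtPrime q'
  haveI : Module.Flat S R := Module.Flat.trans S (S ⊗[k] K) R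
  haveI : IsLocalHom (algebraMap S R) := ⟨fun a ha => by
    by_contra hn
    have h1 : algebraMap S (S ⊗[k] K) a ∈ q' := hq'.ge hn
    rw [IsScalarTower.algebraMap_apply S (S ⊗[k] K) R, IsLocalization.AtPrime.isUnit_to_map_iff R q'] at ha
    exact ha h1⟩
  have hu : ∀ p ∈ minimalPrimes S, ∃ (_ : IsLocalRing (S ⧸ p)), CAlg2.IsGeomUnibranch (S ⧸ p) := by
    intro p hp
    haveI := hp.isPrime
    haveI : IsLocalRing (S ⧸ p) := .of_surjective' _ Ideal.Quotient.mk_surjective
    haveI : HenselianLocalRing (S ⧸ p) := by
      haveI : HenselianRing S (IsLocalRing.maximalIdeal S) := inferInstance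
      haveI h1 := Groth.L05.henselianRing_quotient (IsLocalRing.maximalIdeal S) p
      haveI : HenselianRing (S ⧸ p) (IsLocalRing.maximalIdeal (S ⧸ p)) := by
        have e : (IsLocalRing.maximalIdeal S).map (Ideal.Quotient.mk p) = IsLocalRing.maximalIdeal (S ⧸ p) :=
          IsLocalRing.eq_maximalIdeal (Ideal.IsMaximal.map_of_surjective_of_ker_le Ideal.Quotient.mk_surjective
            (Ideal.mk_ker.trans_le (IsLocalRing.le_maximalIdeal hp.isPrime.ne_top)))
        rwa [← e]
      exact Groth.L05.henselianLocalRing_of_henselianRing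
    haveI : IsLocalHom (Ideal.Quotient.mk p) := IsLocalHom.of_surjective _ Ideal.Quotient.mk_surjective
    haveI : IsSepClosed (ResidueField (S ⧸ p)) := by
      have hb : Function.Bijective (ResidueField.map (Ideal.Quotient.mk p)) := by
        refine ⟨RingHom.injective _, fun z => ?_⟩
        obtain ⟨y, rfl⟩ := residue_surjective z
        obtain ⟨x, rfl⟩ := Ideal.Quotient.mk_surjective y
        exact ⟨residue S x, rfl⟩
      letI : Algebra (ResidueField S) (ResidueField (S ⧸ p)) := (ResidueField.map (Ideal.Quotient.mk p)).toAlgebra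
      haveI : Algebra.IsIntegral (ResidueField S) (ResidueField (S ⧸ p)) :=
        ⟨fun z => by obtain ⟨w, rfl⟩ := hb.2 z; exact isIntegral_algebraMap⟩
      haveI : Algebra.IsAlgebraic (ResidueField S) (ResidueField (S ⧸ p)) := inferInstance
      exact Groth.L05.isSepClosed_of_algebraic (ResidueField S) (ResidueField (S ⧸ p))
    exact ⟨inferInstance, Groth.L05.Henselization.Branches.isGeomUnibranch_of_strictlyHenselian _⟩
  have hbij : Set.BijOn (Ideal.comap (algebraMap S R)) (minimalPrimes R) (minimalPrimes S) := by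
    refine ⟨fun Q hQ => Groth.L05.StrictGalois.comap_mem_minimalPrimes_of_flat hQ, ?_, ?_⟩
    · intro P hP P' hP' h
      have hp := Groth.L05.StrictGalois.comap_mem_minimalPrimes_of_flat (R := S) hP
      haveI := hp.isPrime
      obtain ⟨_, hu'⟩ := hu _ hp
      exact ((unique_over k K S q' hq' _ hu' P hP rfl).2 P' hP' h.symm).symm
    · intro p hp
      haveI := hp.isPrime
      haveI : Module.FaithfullyFlat S R := Module.FaithfullyFlat.of_flat_of_isLocalHom
      obtain ⟨P, hP⟩ := PrimeSpectrum.comap_surjective_of_faithfullyFlat (A := S) (B := R) ⟨p, inferInstance⟩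
      obtain ⟨Q, hQ, hle⟩ := Ideal.exists_minimalPrimes_le (I := (⊥ : Ideal R)) (J := P.asIdeal) bot_le
      haveI := hQ.isPrime
      have hPp : P.asIdeal.comap (algebraMap S R) = p := congrArg PrimeSpectrum.asIdeal hP
      exact ⟨Q, hQ, le_antisymm ((Ideal.comap_mono hle).trans hPp.le)
        (hp.2 ⟨Ideal.IsPrime.comap _, bot_le⟩ ((Ideal.comap_mono hle).trans hPp.le))⟩
  rw [← hbij.image_eq, hbij.injOn.encard_image]
  by_cases hfin : (minimalPrimes R).Finite
  · obtain ⟨U, _, _, _, _, hU⟩ := Groth.L05.Henselization.exists_isStrictHenselization R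
    haveI := Groth.L05.Henselization.flat_of_isStrictHenselization R U
    rw [Groth.L23.Branch.numGeomBranches_eq_finsum (S := U) hfin]
    haveI := hfin.fintype
    rw [finsum_eq_sum_of_fintype, hfin.encard_eq_coe_toFinset_card, Finset.sum_eq_card_nsmul (b := (1 : ℕ∞))]
    · simp [Set.Finite.toFinset]
    · intro P _
      haveI := P.2.isPrime
      have hp := Groth.L05.StrictGalois.comap_mem_minimalPrimes_of_flat (R := S) P.2
      haveI := hp.isPrime
      obtain ⟨_, hu'⟩ := hu _ hp
      obtain ⟨_, h⟩ := (unique_over k K S q' hq' _ hu' P.1 P.2 rfl).1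
      exact (Groth.L23.Branch.numGeomBranches_eq_one_iff _).2 h
  · rw [Brnch.numGeomBranches, if_neg hfin, Set.Infinite.encard_eq hfin]

end Prime

end Groth.L22.Branches
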