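import Groth.Agent.L22.Branches.FieldExt

/-!
Geometric branches and extension of the ground field: passage to the strict henselization.
-/

set_option autoImplicit false
set_option linter.style.haveILetI false
set_option backward.isDefEq.respectTransparency.types false
set_option maxSynthPendingDepth 3
universe u

open IsLocalRing TensorProduct

namespace Groth.L22.Branches

variable (k : Type u) [Field k] (K : Type u) [Field K] [Algebra k K]
variable (A : Type u) [CommRing A] [IsLocalRing A] [Algebra k A]

set_option maxHeartbeats 1000000 in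
theorem numGeomBranches_eq (q : Ideal (A ⊗[k] K)) [q.IsPrime]
    (hq : q.comap (algebraMap A (A ⊗[k] K)) = maximalIdeal A)
    (B : Type u) [CommRing B] [IsLocalRing B] [Algebra (A ⊗[k] K) B] [IsLocalization.AtPrime B q] :
    Brnch.numGeomBranches B = Brnch.numGeomBranches A := by
  obtain ⟨S, _, _, _, _, hS⟩ := Groth.L05.Henselization.exists_isStrictHenselization A
  haveI := Groth.L05.Henselization.flat_of_isStrictHenselization A S
  haveI : HenselianLocalRing S := hS.henselian
  haveI : Algebra.WeaklyEtale A S := Groth.L27.IndEtale.weaklyEtale A S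
    (Groth.L05.Henselization.isIndEtale_of_isStrictHenselization A S)
  haveI : Algebra.IsSeparable (ResidueField A) (ResidueField S) := hS.isSepClosure.separable
  haveI : IsSepClosed (ResidueField S) := hS.isSepClosure.sep_closed
  haveI : Module.FaithfullyFlat A S := Module.FaithfullyFlat.of_flat_of_isLocalHom
  letI : Algebra k S := ((algebraMap A S).comp (algebraMap k A)).toAlgebra
  haveI : IsScalarTower k A S := IsScalarTower.of_algebraMap_eq' rfl
  let T := S ⊗[k] K
  let φ : A ⊗[k] K →ₐ[k] T := Algebra.TensorProduct.map (IsScalarTower.toAlgHom k A S) (AlgHom.id k K)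
  letI : Algebra (A ⊗[k] K) T := φ.toRingHom.toAlgebra
  haveI : IsScalarTower A (A ⊗[k] K) T := IsScalarTower.of_algebraMap_eq fun a => by
    show algebraMap A S a ⊗ₜ[k] (1 : K) = φ (a ⊗ₜ[k] 1)
    rfl
  -- `T` is a base change of `S`
  let e' : (A ⊗[k] K) ⊗[A] S ≃ₐ[A] T :=
    (Algebra.TensorProduct.comm A (A ⊗[k] K) S).trans (Algebra.TensorProduct.cancelBaseChange k A A S K)
  have he' : ∀ x : A ⊗[k] K, e' (x ⊗ₜ[A] (1 : S)) = φ x := by
    intro x
    induction x using TensorProduct.induction_on with
    | zero => simp
    | tmul a c =>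
      show (Algebra.TensorProduct.cancelBaseChange k A A S K) ((1 : S) ⊗ₜ[A] (a ⊗ₜ[k] c)) = algebraMap A S a ⊗ₜ[k] c
      rw [Algebra.algebraMap_eq_smul_one]
      rfl
    | add x y hx hy => rw [TensorProduct.add_tmul, map_add, map_add, hx, hy]
  letI : Algebra ((A ⊗[k] K) ⊗[A] S) T := e'.toRingEquiv.toRingHom.toAlgebra
  haveI : IsScalarTower (A ⊗[k] K) ((A ⊗[k] K) ⊗[A] S) T :=
    IsScalarTower.of_algebraMap_eq fun x => (he' x).symm
  haveI : Algebra.Etale ((A ⊗[k] K) ⊗[A] S) T :=
    Algebra.Etale.of_equiv (AlgEquiv.ofBijective (Algebra.ofId ((A ⊗[k] K) ⊗[A] S) T) e'.bijective)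
  haveI : Algebra.WeaklyEtale (A ⊗[k] K) T :=
    Algebra.WeaklyEtale.trans (A ⊗[k] K) ((A ⊗[k] K) ⊗[A] S) T
  haveI : Module.FaithfullyFlat (A ⊗[k] K) T := Module.FaithfullyFlat.of_linearEquiv (R := A ⊗[k] K)
    ((A ⊗[k] K) ⊗[A] S) (AlgEquiv.ofRingEquiv (f := e'.toRingEquiv) (fun x => he' x) :
      (A ⊗[k] K) ⊗[A] S ≃ₐ[A ⊗[k] K] T).symm.toLinearEquiv
  -- a prime of `T` over `q`
  obtain ⟨Q, hQ⟩ := PrimeSpectrum.comap_surjective_of_faithfullyFlat (A := A ⊗[k] K) (B := T) ⟨q, inferInstance⟩
  let q' : Ideal T := Q.asIdeal
  haveI : q'.IsPrime := Q.2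
  have hqq : q'.comap φ.toRingHom = q := congrArg PrimeSpectrum.asIdeal hQ
  have hq' : q'.comap (algebraMap S T) = maximalIdeal S := by
    haveI : (q'.comap (algebraMap S T)).IsPrime := Ideal.IsPrime.comap _
    refine le_antisymm (le_maximalIdeal (Ideal.IsPrime.ne_top inferInstance)) ?_
    rw [← Groth.L05.Henselization.map_maximalIdeal_of_isStrictHenselization A S, Ideal.map_le_iff_le_comap,
      Ideal.comap_comap, ← hq, ← hqq, Ideal.comap_comap, show φ.toRingHom.comp (algebraMap A (A ⊗[k] K)) =
        (algebraMap S T).comp (algebraMap A S) from RingHom.ext fun a => (IsScalarTower.algebraMap_apply A (A ⊗[k] K) T a).symm]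
  let R := Localization.AtPrime q'
  have hR : Brnch.numGeomBranches R = (minimalPrimes S).encard := numGeomBranches_strict k K S q' hq'
  rw [← Groth.L23.Branch.card_minimalPrimes_strict A S, ENat.card_coe_set_eq, ← hR]
  -- compare `B` and `R`
  haveI : IsScalarTower (A ⊗[k] K) T R := inferInstance
  have hunit : ∀ y : q.primeCompl, IsUnit (algebraMap (A ⊗[k] K) R y) := fun y =>
    IsLocalization.map_units R (⟨φ y, fun h => y.2 (hqq.le h)⟩ : q'.primeCompl)
  letI : Algebra B R := (IsLocalization.lift hunit).toAlgebra
  haveI : IsScalarTower (A ⊗[k] K) B R :=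
    IsScalarTower.of_algebraMap_eq fun x => (IsLocalization.lift_eq hunit x).symm
  haveI : Algebra.WeaklyEtale B R :=
    Groth.L20.weaklyEtale_of_isLocalization (A := A ⊗[k] K) (B := T) q.primeCompl q'.primeCompl B R
  haveI : IsLocalHom (algebraMap B R) := ⟨fun z hz => by
    obtain ⟨x, s, rfl⟩ := IsLocalization.exists_mk'_eq q.primeCompl z
    have h1 : IsUnit (algebraMap (A ⊗[k] K) R x) := by
      rw [IsScalarTower.algebraMap_apply (A ⊗[k] K) B R, ← IsLocalization.mk'_spec B x s, map_mul]
      exact hz.mul (by rw [← IsScalarTower.algebraMap_apply]; exact hunit s)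
    have h2 : x ∉ q := fun h => (IsLocalization.AtPrime.isUnit_to_map_iff R q' (φ x)).1 h1 (hqq.ge h)
    exact (IsLocalization.AtPrime.isUnit_mk'_iff B q x s).2 h2⟩
  obtain ⟨U, _, _, _, _, hU⟩ := Groth.L05.Henselization.exists_isStrictHenselization R
  haveI : HenselianLocalRing U := hU.henselian
  haveI := Groth.L05.Henselization.flat_of_isStrictHenselization R U
  haveI : Algebra.WeaklyEtale R U := Groth.L27.IndEtale.weaklyEtale R U
    (Groth.L05.Henselization.isIndEtale_of_isStrictHenselization R U)
  haveI : Algebra.IsSeparable (ResidueField R) (ResidueField U) := hU.isSepClosure.separable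
  haveI : IsSepClosed (ResidueField U) := hU.isSepClosure.sep_closed
  letI : Algebra B U := ((algebraMap R U).comp (algebraMap B R)).toAlgebra
  haveI : IsScalarTower B R U := IsScalarTower.of_algebraMap_eq' rfl
  haveI : Algebra.WeaklyEtale B U := Algebra.WeaklyEtale.trans B R U
  haveI : IsLocalHom (algebraMap B U) := RingHom.isLocalHom_comp _ _
  haveI : Algebra.IsSeparable (ResidueField B) (ResidueField R) := by
    constructor
    intro z
    let L := separableClosure (ResidueField B) (ResidueField R)
    have hbase : ∀ x : A ⊗[k] K, residue R (algebraMap T R (φ x)) ∈ L := fun x => by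
      have : residue R (algebraMap T R (φ x)) = algebraMap (ResidueField B) (ResidueField R) (residue B (algebraMap (A ⊗[k] K) B x)) := by
        show _ = residue R (algebraMap B R (algebraMap (A ⊗[k] K) B x))
        rw [← IsScalarTower.algebraMap_apply (A ⊗[k] K) B R]
        rfl
      rw [this]
      exact L.algebraMap_mem _
    have hTL : ∀ t : T, residue R (algebraMap T R t) ∈ L := by
      intro t
      induction t using TensorProduct.induction_on with
      | zero => simp
      | add x y hx hy => rw [map_add, map_add]; exact L.add_mem hx hy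
      | tmul s c =>
        rw [show s ⊗ₜ[k] c = (s ⊗ₜ[k] (1 : K)) * φ ((1 : A) ⊗ₜ[k] c) by
          show _ = (s ⊗ₜ[k] (1 : K)) * (algebraMap A S 1 ⊗ₜ[k] c)
          rw [map_one, Algebra.TensorProduct.tmul_mul_tmul, mul_one, one_mul], map_mul, map_mul]
        refine L.mul_mem ?_ (hbase _)
        rw [mem_separableClosure_iff]
        let θ : ResidueField S →+* ResidueField R := Ideal.Quotient.lift (maximalIdeal S)
          ((residue R).comp ((algebraMap T R).comp (algebraMap S T))) fun a ha => by
            show residue R (algebraMap T R (algebraMap S T a)) = 0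
            rw [residue_eq_zero_iff, mem_maximalIdeal, mem_nonunits_iff, IsLocalization.AtPrime.isUnit_to_map_iff R q']
            exact fun h => h (hq'.ge ha)
        have hsep := Algebra.IsSeparable.isSeparable (ResidueField A) (residue S s)
        have hcomm : θ.comp (algebraMap (ResidueField A) (ResidueField S)) =
            (algebraMap (ResidueField B) (ResidueField R)).comp (Ideal.Quotient.lift (maximalIdeal A)
              ((residue B).comp ((algebraMap (A ⊗[k] K) B).comp (algebraMap A (A ⊗[k] K)))) fun a ha => by
                show residue B (algebraMap (A ⊗[k] K) B (algebraMap A (A ⊗[k] K) a)) = 0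
                rw [residue_eq_zero_iff, mem_maximalIdeal, mem_nonunits_iff, IsLocalization.AtPrime.isUnit_to_map_iff B q]
                exact fun h => h (hq.ge ha)) := by
          refine RingHom.ext fun a => ?_
          obtain ⟨a, rfl⟩ := residue_surjective a
          show residue R (algebraMap T R (algebraMap S T (algebraMap A S a))) =
            residue R (algebraMap B R (algebraMap (A ⊗[k] K) B (algebraMap A (A ⊗[k] K) a)))
          rw [← IsScalarTower.algebraMap_apply (A ⊗[k] K) B R, IsScalarTower.algebraMap_apply (A ⊗[k] K) T R,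
            ← IsScalarTower.algebraMap_apply A (A ⊗[k] K) T]
          rfl
        have hroot : ((minpoly (ResidueField A) (residue S s)).map (Ideal.Quotient.lift (maximalIdeal A)
              ((residue B).comp ((algebraMap (A ⊗[k] K) B).comp (algebraMap A (A ⊗[k] K)))) fun a ha => by
                show residue B (algebraMap (A ⊗[k] K) B (algebraMap A (A ⊗[k] K) a)) = 0
                rw [residue_eq_zero_iff, mem_maximalIdeal, mem_nonunits_iff, IsLocalization.AtPrime.isUnit_to_map_iff B q]
                exact fun h => h (hq.ge ha))).aeval (θ (residue S s)) = 0 := by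
          rw [Polynomial.aeval_def, Polynomial.eval₂_map, ← hcomm]
          exact (Polynomial.hom_eval₂ _ _ θ _).symm.trans
            ((congrArg θ ((Polynomial.aeval_def (residue S s) (minpoly (ResidueField A) (residue S s))).symm.trans
              (minpoly.aeval (ResidueField A) (residue S s)))).trans (map_zero θ))
        exact (Polynomial.Separable.map (show (minpoly (ResidueField A) (residue S s)).Separable from hsep)).of_dvd
          (minpoly.dvd _ _ hroot)
    obtain ⟨r, rfl⟩ := residue_surjective z
    obtain ⟨t, ⟨d, hd⟩, rfl⟩ := IsLocalization.exists_mk'_eq q'.primeCompl r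
    have hd0 : residue R (algebraMap T R d) ≠ 0 :=
      ((residue R).isUnit_map (IsLocalization.map_units R (⟨d, hd⟩ : q'.primeCompl))).ne_zero
    have : residue R (IsLocalization.mk' R t ⟨d, hd⟩) = residue R (algebraMap T R t) / residue R (algebraMap T R d) := by
      rw [eq_div_iff hd0, ← map_mul, IsLocalization.mk'_spec]
    rw [← mem_separableClosure_iff, this]
    exact L.div_mem (hTL t) (hTL d)
  haveI : IsScalarTower (ResidueField B) (ResidueField R) (ResidueField U) :=
    IsScalarTower.of_algebraMap_eq fun z => by
      obtain ⟨z, rfl⟩ := residue_surjective z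
      rfl
  haveI : Algebra.IsSeparable (ResidueField B) (ResidueField U) :=
    Algebra.IsSeparable.trans (ResidueField B) (ResidueField R) (ResidueField U)
  rw [← card_minimalPrimes_of_weaklyEtale B U, Groth.L23.Branch.card_minimalPrimes_strict R U]

end Groth.L22.Branches
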